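import Mathlib

/-!
# Euler–Poincaré formula for bounded complexes of finite-dimensional vector spaces (helper5)
-/
set_option autoImplicit false
set_option linter.style.haveILetI false
universe u v
open CategoryTheory CategoryTheory.Limits

namespace Groth.Agent.Lib.Helper5.EulerPoincare

section Field
variable {K : Type u} [Field K]

theorem sc_finrank (S : ShortComplex (ModuleCat.{v} K)) [Module.Finite K S.X₂] :
    Module.finrank K S.homology + Module.finrank K (LinearMap.range S.f.hom) +
      Module.finrank K (LinearMap.range S.g.hom) = Module.finrank K S.X₂ := by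
  have e1 : Module.finrank K S.homology =
      Module.finrank K (LinearMap.ker S.g.hom ⧸ LinearMap.range S.moduleCatToCycles) :=
    (S.moduleCatHomologyIso.toLinearEquiv).finrank_eq
  have h1 : Module.finrank K (LinearMap.ker S.g.hom ⧸ LinearMap.range S.moduleCatToCycles) +
      Module.finrank K (LinearMap.range S.moduleCatToCycles) =
      Module.finrank K (LinearMap.ker S.g.hom) :=
    (LinearMap.range S.moduleCatToCycles).finrank_quotient_add_finrank
  have h2 : Module.finrank K (LinearMap.range S.moduleCatToCycles) =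
      Module.finrank K (LinearMap.range S.f.hom) := by
    have hmap : (LinearMap.range S.moduleCatToCycles).map (LinearMap.ker S.g.hom).subtype =
        LinearMap.range S.f.hom := by
      rw [← LinearMap.range_comp]
      rfl
    rw [← hmap]
    exact (Submodule.equivMapOfInjective _ (Submodule.subtype_injective _) _).finrank_eq
  have h3 : Module.finrank K (LinearMap.range S.g.hom) + Module.finrank K (LinearMap.ker S.g.hom) =
      Module.finrank K S.X₂ := LinearMap.finrank_range_add_finrank_ker S.g.hom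
  omega

variable (C : CochainComplex (ModuleCat.{v} K) ℤ)

/-- rank of the differential `C^i ⟶ C^j` -/
noncomputable def rk (i j : ℤ) : ℕ := Module.finrank K (LinearMap.range (C.d i j).hom)

theorem finrank_homology_add (i : ℤ) [Module.Finite K (C.X i)] :
    Module.finrank K (C.homology i) + rk C (i - 1) i + rk C i (i + 1) =
      Module.finrank K (C.X i) := by
  have e : C.homology i ≅ (C.sc' (i - 1) i (i + 1)).homology :=
    ShortComplex.homologyMapIso (C.isoSc' (i - 1) i (i + 1) (by simp) (by simp))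
  have h1 : Module.finrank K (C.homology i) =
      Module.finrank K (C.sc' (i - 1) i (i + 1)).homology := e.toLinearEquiv.finrank_eq
  haveI : Module.Finite K (C.sc' (i - 1) i (i + 1)).X₂ := ‹Module.Finite K (C.X i)›
  have h2 := sc_finrank (C.sc' (i - 1) i (i + 1))
  rw [h1]
  exact h2

theorem rk_eq_zero_of_isZero (i j : ℤ) (h : IsZero (C.X j)) : rk C i j = 0 := by
  haveI : Subsingleton (C.X j) := ModuleCat.subsingleton_of_isZero h
  unfold rk
  exact Module.finrank_zero_of_subsingleton

theorem finrank_eq_zero_of_isZero (i : ℤ) (h : IsZero (C.X i)) : Module.finrank K (C.X i) = 0 := by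
  haveI : Subsingleton (C.X i) := ModuleCat.subsingleton_of_isZero h
  exact Module.finrank_zero_of_subsingleton

theorem finrank_homology_eq_zero_of_isZero (i : ℤ) (h : IsZero (C.X i)) :
    Module.finrank K (C.homology i) = 0 := by
  have hz : IsZero (C.homology i) := by
    rw [← HomologicalComplex.exactAt_iff_isZero_homology]
    exact HomologicalComplex.ExactAt.of_isZero h
  haveI : Subsingleton (C.homology i) := ModuleCat.subsingleton_of_isZero hz
  exact Module.finrank_zero_of_subsingleton

/-- **Euler–Poincaré** -/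
theorem euler_poincare (hfin : ∀ i, Module.Finite K (C.X i)) (s : Finset ℤ)
    (hs : ∀ i, i ∉ s → IsZero (C.X i)) :
    ∑ᶠ i : ℤ, ((i.negOnePow : ℤˣ) : ℤ) * (Module.finrank K (C.homology i) : ℤ) =
      ∑ i ∈ s, ((i.negOnePow : ℤˣ) : ℤ) * (Module.finrank K (C.X i) : ℤ) := by
  classical
  let ρ : ℤ → ℤ := fun i => (rk C (i - 1) i : ℤ)
  let c : ℤ → ℤ := fun i => (Module.finrank K (C.X i) : ℤ)
  have hρ : ∀ i, i ∉ s → ρ i = 0 := fun i hi => by
    simp only [ρ, rk_eq_zero_of_isZero C (i - 1) i (hs i hi), Nat.cast_zero]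
  have hc : ∀ i, i ∉ s → c i = 0 := fun i hi => by
    simp only [c, finrank_eq_zero_of_isZero C i (hs i hi), Nat.cast_zero]
  have key : ∀ i : ℤ, ((i.negOnePow : ℤˣ) : ℤ) * (Module.finrank K (C.homology i) : ℤ) =
      ((i.negOnePow : ℤˣ) : ℤ) * c i - ((i.negOnePow : ℤˣ) : ℤ) * ρ i +
        (((i + 1).negOnePow : ℤˣ) : ℤ) * ρ (i + 1) := by
    intro i
    haveI := hfin i
    have h := finrank_homology_add C i
    have h' : (Module.finrank K (C.homology i) : ℤ) + ρ i + ρ (i + 1) = c i := by
      simp only [ρ, c]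
      rw [show i + 1 - 1 = i by ring]
      exact_mod_cast h
    rw [Int.negOnePow_succ]
    have : (Module.finrank K (C.homology i) : ℤ) = c i - ρ i - ρ (i + 1) := by linarith
    rw [this]
    push_cast
    ring
  have f1 : (Function.support fun i : ℤ => ((i.negOnePow : ℤˣ) : ℤ) * c i).Finite :=
    s.finite_toSet.subset (fun i hi => by
      by_contra h
      exact hi (by simp only [hc i h, mul_zero]))
  have f2 : (Function.support fun i : ℤ => ((i.negOnePow : ℤˣ) : ℤ) * ρ i).Finite :=
    s.finite_toSet.subset (fun i hi => by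
      by_contra h
      exact hi (by simp only [hρ i h, mul_zero]))
  have f3 : (Function.support fun i : ℤ => (((i + 1).negOnePow : ℤˣ) : ℤ) * ρ (i + 1)).Finite := by
    have : (fun i : ℤ => (((i + 1).negOnePow : ℤˣ) : ℤ) * ρ (i + 1)) =
        (fun i : ℤ => ((i.negOnePow : ℤˣ) : ℤ) * ρ i) ∘ (Equiv.addRight (1 : ℤ)) := rfl
    rw [this, Function.support_comp_eq_preimage]
    exact f2.preimage (Equiv.injective _).injOn
  have f12 : (Function.support fun i : ℤ => ((i.negOnePow : ℤˣ) : ℤ) * c i -
      ((i.negOnePow : ℤˣ) : ℤ) * ρ i).Finite :=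
    (f1.union f2).subset (Function.support_sub _ _)
  have shift : ∑ᶠ i : ℤ, (((i + 1).negOnePow : ℤˣ) : ℤ) * ρ (i + 1) =
      ∑ᶠ i : ℤ, ((i.negOnePow : ℤˣ) : ℤ) * ρ i :=
    finsum_comp_equiv (Equiv.addRight (1 : ℤ)) (f := fun i : ℤ => ((i.negOnePow : ℤˣ) : ℤ) * ρ i)
  calc ∑ᶠ i : ℤ, ((i.negOnePow : ℤˣ) : ℤ) * (Module.finrank K (C.homology i) : ℤ)
      = ∑ᶠ i : ℤ, (((i.negOnePow : ℤˣ) : ℤ) * c i - ((i.negOnePow : ℤˣ) : ℤ) * ρ i +
        (((i + 1).negOnePow : ℤˣ) : ℤ) * ρ (i + 1)) := finsum_congr key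
    _ = (∑ᶠ i : ℤ, ((i.negOnePow : ℤˣ) : ℤ) * c i - ∑ᶠ i : ℤ, ((i.negOnePow : ℤˣ) : ℤ) * ρ i) +
        ∑ᶠ i : ℤ, (((i + 1).negOnePow : ℤˣ) : ℤ) * ρ (i + 1) := by
      rw [finsum_add_distrib f12 f3, finsum_sub_distrib f1 f2]
    _ = ∑ᶠ i : ℤ, ((i.negOnePow : ℤˣ) : ℤ) * c i := by rw [shift]; ring
    _ = ∑ i ∈ s, ((i.negOnePow : ℤˣ) : ℤ) * c i :=
      finsum_eq_sum_of_support_subset _ (fun i hi => by
        by_contra h
        exact hi (by simp only [hc i (by simpa using h), mul_zero]))

end Field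

/-- Euler–Poincaré over a ring which happens to be a field -/
theorem euler_poincare' {R : Type u} [Ring R] (hR : IsField R)
    (C : CochainComplex (ModuleCat.{v} R) ℤ) (hfin : ∀ i, Module.Finite R (C.X i)) (s : Finset ℤ)
    (hs : ∀ i, i ∉ s → IsZero (C.X i)) :
    ∑ᶠ i : ℤ, ((i.negOnePow : ℤˣ) : ℤ) * (Module.finrank R (C.homology i) : ℤ) =
      ∑ i ∈ s, ((i.negOnePow : ℤˣ) : ℤ) * (Module.finrank R (C.X i) : ℤ) := by
  letI := hR.toField
  exact euler_poincare C hfin s hs

end Groth.Agent.Lib.Helper5.EulerPoincare
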