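import Mathlib
import Groth.Agent.Lib.Helper1.FlatCxL
import Groth.Agent.Lib.Helper5.Euler.EulerPoincare

/-!
# Ring-level semicontinuity of the middle homology of a base-changed short complex (helper5)
-/
set_option autoImplicit false
set_option linter.style.haveILetI false
universe u
open CategoryTheory CategoryTheory.Limits TensorProduct Topology

namespace Groth.Agent.Lib.Helper5.RingSemi

open Groth.Agent.Helper1.FlatCxL Groth.Agent.Lib.Helper5.EulerPoincare

variable {A : Type u} [CommRing A]

section Ext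
variable (κ : Type u) [Field κ] [Algebra A κ]

/-- the kernel of `A → κ` as a point of the spectrum -/
noncomputable def kerPt : PrimeSpectrum A :=
  ⟨RingHom.ker (algebraMap A κ), RingHom.ker_isPrime _⟩

/-- fibre rank does not depend on the field -/
theorem finrank_tensor_eq_fibreRank (Q : Type u) [AddCommGroup Q] [Module A Q] :
    Module.finrank κ (κ ⊗[A] Q) = fibreRank Q (kerPt (A := A) κ) := by
  let 𝔭 : Ideal A := RingHom.ker (algebraMap A κ)
  haveI : 𝔭.IsPrime := RingHom.ker_isPrime _
  let σ : 𝔭.ResidueField →+* κ := Ideal.ResidueField.lift 𝔭 (algebraMap A κ) le_rfl (by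
    intro a ha
    simp only [Submonoid.mem_comap, IsUnit.mem_submonoid_iff]
    exact IsUnit.mk0 _ (fun h => ha (by exact h)))
  letI : Algebra 𝔭.ResidueField κ := σ.toAlgebra
  haveI : IsScalarTower A 𝔭.ResidueField κ := IsScalarTower.of_algebraMap_eq (fun a => by
    change algebraMap A κ a = σ (algebraMap A 𝔭.ResidueField a)
    exact (Ideal.ResidueField.lift_algebraMap 𝔭 _ _ _ a).symm)
  have e := TensorProduct.AlgebraTensorModule.cancelBaseChange A 𝔭.ResidueField κ κ Q
  rw [← e.finrank_eq, Module.finrank_baseChange]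
  rfl

/-- the dimension of the middle homology of the base change of a short complex -/
noncomputable def rH (S : ShortComplex (ModuleCat.{u} A)) : ℕ :=
  Module.finrank κ (S.map (ModuleCat.extendScalars (algebraMap A κ))).homology

theorem rH_add (S : ShortComplex (ModuleCat.{u} A)) [Module.Finite A S.X₂]
    [Module.Finite A S.X₃] :
    rH κ S + fibreRank S.X₃ (kerPt (A := A) κ) =
      fibreRank (S.X₂ ⧸ LinearMap.range S.f.hom) (kerPt (A := A) κ) +
        fibreRank (S.X₃ ⧸ LinearMap.range S.g.hom) (kerPt (A := A) κ) := by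
  let S' := S.map (ModuleCat.extendScalars (algebraMap A κ))
  haveI h2 : Module.Finite κ S'.X₂ := Module.Finite.equiv (theta (κ := κ) S.X₂).symm
  haveI h3 : Module.Finite κ S'.X₃ := Module.Finite.equiv (theta (κ := κ) S.X₃).symm
  have key := sc_finrank S'
  have q2 : Module.finrank κ (S'.X₂ ⧸ LinearMap.range S'.f.hom) +
      Module.finrank κ (LinearMap.range S'.f.hom) = Module.finrank κ S'.X₂ :=
    (LinearMap.range S'.f.hom).finrank_quotient_add_finrank
  have q3 : Module.finrank κ (S'.X₃ ⧸ LinearMap.range S'.g.hom) +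
      Module.finrank κ (LinearMap.range S'.g.hom) = Module.finrank κ S'.X₃ :=
    (LinearMap.range S'.g.hom).finrank_quotient_add_finrank
  have e1 : Module.finrank κ (S'.X₂ ⧸ LinearMap.range S'.f.hom) =
      fibreRank (S.X₂ ⧸ LinearMap.range S.f.hom) (kerPt (A := A) κ) :=
    (finrank_quot_range_extendScalars (κ := κ) S.f).trans (finrank_tensor_eq_fibreRank κ _)
  have e2 : Module.finrank κ (S'.X₃ ⧸ LinearMap.range S'.g.hom) =
      fibreRank (S.X₃ ⧸ LinearMap.range S.g.hom) (kerPt (A := A) κ) :=
    (finrank_quot_range_extendScalars (κ := κ) S.g).trans (finrank_tensor_eq_fibreRank κ _)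
  have e3 : Module.finrank κ S'.X₃ = fibreRank S.X₃ (kerPt (A := A) κ) :=
    (finrank_extendScalars_obj (κ := κ) S.X₃).trans (finrank_tensor_eq_fibreRank κ _)
  have hh : rH κ S = Module.finrank κ S'.homology := rfl
  omega

end Ext

/-- **semicontinuity**: near `x₀`, the middle homology of the base change to any field with kernel
`x` has dimension at most that at `x₀` -/
theorem rH_eventually_le (S : ShortComplex (ModuleCat.{u} A)) [Module.Finite A S.X₂]
    [Module.Finite A S.X₃] [Module.Free A S.X₃] (x₀ : PrimeSpectrum A) :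
    ∀ᶠ x in 𝓝 x₀, ∀ (κ κ₀ : Type u) [Field κ] [Field κ₀] [Algebra A κ] [Algebra A κ₀],
      kerPt (A := A) κ = x → kerPt (A := A) κ₀ = x₀ → rH κ S ≤ rH κ₀ S := by
  have ev1 := eventually_fibreRank_le (S.X₂ ⧸ LinearMap.range S.f.hom) x₀
  have ev2 := eventually_fibreRank_le (S.X₃ ⧸ LinearMap.range S.g.hom) x₀
  filter_upwards [ev1, ev2] with x h1 h2
  intro κ κ₀ _ _ _ _ hx hx₀
  have k := rH_add κ S
  have k₀ := rH_add κ₀ S
  rw [hx] at k
  rw [hx₀] at k₀
  have c : ∀ y : PrimeSpectrum A, fibreRank S.X₃ y = Module.finrank A S.X₃ := fun y => by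
    haveI : Nontrivial A := y.nontrivial
    unfold fibreRank
    exact Module.finrank_baseChange
  rw [c] at k k₀
  omega

/-- the dimension of the middle homology of the base change to a commutative ring `κ` -/
noncomputable def rH' (κ : Type u) [CommRing κ] [Algebra A κ]
    (S : ShortComplex (ModuleCat.{u} A)) : ℕ :=
  Module.finrank κ (S.map (ModuleCat.extendScalars (algebraMap A κ))).homology

/-- semicontinuity, for commutative rings which are fields -/
theorem rH'_eventually_le (S : ShortComplex (ModuleCat.{u} A)) [Module.Finite A S.X₂]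
    [Module.Finite A S.X₃] [Module.Free A S.X₃] (x₀ : PrimeSpectrum A) :
    ∀ᶠ x in 𝓝 x₀, ∀ (κ κ₀ : Type u) [CommRing κ] [CommRing κ₀] (_ : IsField κ) (_ : IsField κ₀)
      [Algebra A κ] [Algebra A κ₀],
      RingHom.ker (algebraMap A κ) = x.asIdeal → RingHom.ker (algebraMap A κ₀) = x₀.asIdeal →
        rH' κ S ≤ rH' κ₀ S := by
  filter_upwards [rH_eventually_le S x₀] with x hx
  intro κ κ₀ _ _ hκ hκ₀ a a₀ hk hk₀
  letI : Field κ := hκ.toField
  letI : Field κ₀ := hκ₀.toField
  letI : Algebra A κ := a
  letI : Algebra A κ₀ := a₀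
  exact hx κ κ₀ (PrimeSpectrum.ext hk) (PrimeSpectrum.ext hk₀)

end Groth.Agent.Lib.Helper5.RingSemi
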