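import Mathlib
import Groth.Prelude.Def_Coh
import Groth.Agent.Lib.Helper5.Misc.SheafModGen

/-!
# Global sections on a one-point scheme are exact (helper5)
-/
set_option autoImplicit false
set_option linter.style.haveILetI false
universe u
open CategoryTheory CategoryTheory.Limits AlgebraicGeometry Opposite TopologicalSpace

namespace Groth.Agent.Lib.Helper5.OnePoint

variable (T : Scheme.{u})

/-- global sections as a module over global functions -/
noncomputable abbrev ΓT : T.Modules ⥤ ModuleCat.{u} (Coh.Γtop T) :=
  SheafOfModules.evaluation T.ringCatSheaf (op ⊤)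

instance : (ΓT T).Additive where
  map_add := rfl

theorem surjective_of_epi [Subsingleton T] [Nonempty T] {M N : T.Modules} (f : M ⟶ N) [Epi f] :
    Function.Surjective ((ΓT T).map f) := by
  haveI : PreservesColimitsOfSize.{0, 0} (SheafOfModules.toSheaf.{u} T.ringCatSheaf) :=
    preservesColimitsOfSize_shrink.{0, u, 0, u} _
  haveI : (SheafOfModules.toSheaf.{u} T.ringCatSheaf).PreservesEpimorphisms :=
    preservesEpimorphisms_of_preservesColimitsOfShape _
  have h1 : Epi ((SheafOfModules.toSheaf T.ringCatSheaf).map f) :=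
    @Functor.map_epi _ _ _ _ (SheafOfModules.toSheaf.{u} T.ringCatSheaf) _ _ _ f ‹Epi f›
  have hls : Sheaf.IsLocallySurjective ((SheafOfModules.toSheaf T.ringCatSheaf).map f) :=
    (Sheaf.isLocallySurjective_iff_epi' (φ := (SheafOfModules.toSheaf T.ringCatSheaf).map f)).2 h1
  intro s
  have hmem := Presheaf.imageSieve_mem (Opens.grothendieckTopology T)
    ((SheafOfModules.toSheaf T.ringCatSheaf).map f).hom (U := op ⊤) s
  obtain ⟨x⟩ := ‹Nonempty T›
  obtain ⟨V, g, hg, hxV⟩ := hmem x (by trivial)
  have hV : V = ⊤ := by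
    ext y
    simp only [Opens.coe_top, Set.mem_univ, iff_true]
    rw [Subsingleton.elim y x]
    exact hxV
  subst hV
  obtain ⟨t, ht⟩ := hg
  refine ⟨t, ?_⟩
  have hg' : g = 𝟙 _ := Subsingleton.elim _ _
  rw [hg'] at ht
  refine ht.trans ?_
  simp

instance : PreservesFiniteLimits (ΓT T) :=
  SheafOfModules.Finite.evaluationPreservesFiniteLimits.{u} T.ringCatSheaf (op ⊤)

theorem preservesFiniteColimits [Subsingleton T] [Nonempty T] :
    PreservesFiniteColimits (ΓT T) := by
  rw [Functor.preservesFiniteColimits_iff_forall_exact_map_and_epi]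
  intro S hS
  have h := (Functor.preservesFiniteLimits_iff_forall_exact_map_and_mono (ΓT T)).1
    inferInstance S hS
  haveI := hS.epi_g
  exact ⟨h.1, (ModuleCat.epi_iff_surjective _).2 (surjective_of_epi T S.g)⟩

/-- global sections commute with homology on a one-point scheme -/
noncomputable def homologyIso [Subsingleton T] [Nonempty T] (C : CochainComplex T.Modules ℤ) (i : ℤ) :
    ((((ΓT T).mapHomologicalComplex (ComplexShape.up ℤ)).obj C).homology i) ≅
      (ΓT T).obj (C.homology i) :=
  haveI := preservesFiniteColimits T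
  ShortComplex.mapHomologyIso (C.sc i) (ΓT T)

/-- isomorphic modules have the same rank of global sections -/
theorem finrank_eq_of_iso {M N : T.Modules} (e : M ≅ N) :
    Module.finrank (Coh.Γtop T) ((ΓT T).obj M) = Module.finrank (Coh.Γtop T) ((ΓT T).obj N) :=
  (((ΓT T).mapIso e).toLinearEquiv).finrank_eq

end Groth.Agent.Lib.Helper5.OnePoint
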