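import Mathlib
import Groth.Agent.Lib.Helper5.Euler.OnePoint

/-!
# Global sections on the spectrum of a field, as a vector space over the field (helper5)
-/
set_option autoImplicit false
set_option linter.style.haveILetI false
universe u
open CategoryTheory CategoryTheory.Limits AlgebraicGeometry Opposite TopologicalSpace

namespace Groth.Agent.Lib.Helper5.SpecGamma

open Groth.Agent.Lib.Helper5.OnePoint

variable (K : CommRingCat.{u})

/-- global sections of a module on `Spec K`, as a `K`-module -/
noncomputable abbrev Φ : (Spec K).Modules ⥤ ModuleCat.{u} K := moduleSpecΓFunctor (R := K)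

instance : (Φ K).IsRightAdjoint := (tilde.adjunction (R := K)).isRightAdjoint

attribute [local instance] preservesBinaryBiproducts_of_preservesBinaryProducts in
instance : (Φ K).Additive := Functor.additive_of_preservesBinaryBiproducts _

/-- the two module structures on global sections have the same rank -/
theorem finrank_eq (M : (Spec K).Modules) :
    Module.finrank (Coh.Γtop (Spec K)) (M.val.obj (op ⊤)) = Module.finrank K ((Φ K).obj M) := by
  have h : Module.rank K ((Φ K).obj M) = Module.rank (Coh.Γtop (Spec K)) (M.val.obj (op ⊤)) := by
    refine rank_eq_of_equiv_equiv (Scheme.ΓSpecIso K).inv.hom (AddEquiv.refl _) ?_ ?_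
    · exact (ConcreteCategory.bijective_of_isIso (Scheme.ΓSpecIso K).inv)
    · intro r m
      rfl
  unfold Module.finrank
  rw [h]

variable {K}

theorem subsingleton_spec (hK : IsField K) : Subsingleton (Spec K) := by
  letI := hK.toField
  exact inferInstanceAs (Subsingleton (PrimeSpectrum K))

theorem nonempty_spec (hK : IsField K) : Nonempty (Spec K) := by
  letI := hK.toField
  exact inferInstanceAs (Nonempty (PrimeSpectrum K))

theorem epi_map (hK : IsField K) {M N : (Spec K).Modules} (f : M ⟶ N) [Epi f] :
    Epi ((Φ K).map f) := by
  haveI := subsingleton_spec hK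
  haveI := nonempty_spec hK
  rw [ModuleCat.epi_iff_surjective]
  exact surjective_of_epi (Spec K) f

theorem preservesFiniteColimits (hK : IsField K) : PreservesFiniteColimits (Φ K) := by
  rw [Functor.preservesFiniteColimits_iff_forall_exact_map_and_epi]
  intro S hS
  have h := (Functor.preservesFiniteLimits_iff_forall_exact_map_and_mono (Φ K)).1
    inferInstance S hS
  haveI := hS.epi_g
  exact ⟨h.1, epi_map hK S.g⟩

end Groth.Agent.Lib.Helper5.SpecGamma
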