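import Mathlib
import Groth.Agent.Lib.Helper5.Euler.SpecGamma
import Groth.Agent.Lib.Helper5.Euler.RingSemi
import Groth.Agent.Lib.Helper5.Perf.Shrink
import Groth.Agent.Lib.Helper1.TildeBC

/-!
# Semicontinuity of the fibre homology of a short complex of finite locally free modules (helper5)
-/
set_option autoImplicit false
set_option linter.style.haveILetI false
universe u
open CategoryTheory CategoryTheory.Limits AlgebraicGeometry Opposite TopologicalSpace

namespace Groth.Agent.Lib.Helper5.AffLocal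

open Groth.Agent.Lib.Helper5.SpecGamma Groth.Agent.Lib.Helper5.RingSemi
  Groth.Agent.Lib.Helper5.Shrink Groth.Agent.Helper1.TildeBC

instance tilde_preservesZero (R : CommRingCat.{u}) :
    Functor.PreservesZeroMorphisms (C := ModuleCat.{u} R) (D := (Spec R).Modules)
      (tilde.functor R) := by
  have h : (tilde.functor R).PreservesZeroMorphisms := inferInstance
  exact h

instance tilde_additive (R : CommRingCat.{u}) :
    Functor.Additive (C := ModuleCat.{u} R) (D := (Spec R).Modules) (tilde.functor R) := by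
  have h : (tilde.functor R).Additive := inferInstance
  exact h

/-- a free module on an affine scheme is the tilde of a free module -/
noncomputable def freeTildeIso (R : CommRingCat.{u}) (n : ℕ) :
    FlatMod.freeMod (Spec R) n ≅
      (tilde.functor R).obj (ModuleCat.of R (ULift.{u} (Fin n) →₀ R)) :=
  Sigma.whiskerEquiv (f := fun _ : Fin n => Coh.structureModule (Spec R))
    (g := fun _ : ULift.{u} (Fin n) => Coh.structureModule (Spec R))
    Equiv.ulift.symm (fun _ => Iso.refl _) ≪≫ (tildeFinsupp (R := R) (ULift.{u} (Fin n))).symm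

variable {Z : Scheme.{u}}

/-- pullback along `t = t' ≫ ι` with `ι` an open immersion -/
noncomputable def pullbackFactorIso {T U : Scheme.{u}} (ι : U ⟶ Z) [IsOpenImmersion ι]
    (t : T ⟶ Z) (t' : T ⟶ U) (h : t' ≫ ι = t) :
    Scheme.Modules.pullback t ≅ Scheme.Modules.restrictFunctor ι ⋙ Scheme.Modules.pullback t' :=
  Scheme.Modules.pullbackCongr h.symm ≪≫ (Scheme.Modules.pullbackComp t' ι).symm ≪≫
    Functor.isoWhiskerRight (Scheme.Modules.restrictFunctorIsoPullback ι).symm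
      (Scheme.Modules.pullback t')

theorem exists_free_nhd_finset' {ι : Type*} (s : Finset ι) (N : ι → Z.Modules)
    (hN : ∀ i, FlatMod.IsFinLocFree (N i)) (z : Z) :
    ∃ W : Z.Opens, z ∈ W ∧ ∀ i ∈ s, ∃ n : ℕ,
      Nonempty ((N i).restrict W.ι ≅ FlatMod.freeMod (↑W) n) := by
  classical
  induction s using Finset.induction_on with
  | empty => exact ⟨⊤, trivial, fun i hi => absurd hi (Finset.notMem_empty i)⟩
  | insert a s ha ih =>
    obtain ⟨W₀, hzW₀, h₀⟩ := ih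
    obtain ⟨W₁, n₁, hzW₁, ⟨e₁⟩⟩ := hN a z
    refine ⟨W₀ ⊓ W₁, ⟨hzW₀, hzW₁⟩, fun i hi => ?_⟩
    rcases Finset.mem_insert.1 hi with rfl | hi
    · exact ⟨n₁, ⟨freeOfFactor W₁.ι (W₀ ⊓ W₁).ι (Z.homOfLE inf_le_right) (Z.homOfLE_ι _)
        (N i) n₁ e₁⟩⟩
    · obtain ⟨n, ⟨e⟩⟩ := h₀ i hi
      exact ⟨n, ⟨freeOfFactor W₀.ι (W₀ ⊓ W₁).ι (Z.homOfLE inf_le_left) (Z.homOfLE_ι _)
        (N i) n e⟩⟩

/-- finitely many finite locally free modules are simultaneously free on the spectrum of an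
affine open neighbourhood -/
theorem exists_affine_free {ι : Type*} (s : Finset ι) (N : ι → Z.Modules)
    (hN : ∀ i, FlatMod.IsFinLocFree (N i)) (z : Z) :
    ∃ (U : Z.Opens) (hU : IsAffineOpen U), z ∈ U ∧ ∀ i ∈ s, ∃ n : ℕ,
      Nonempty ((N i).restrict hU.fromSpec ≅ FlatMod.freeMod (Spec Γ(Z, U)) n) := by
  obtain ⟨W, hzW, hW⟩ := exists_free_nhd_finset' s N hN z
  obtain ⟨_, ⟨U, hU : IsAffineOpen U, rfl⟩, hzU, hUW⟩ :=
    Z.isBasis_affineOpens.exists_subset_of_mem_open hzW W.isOpen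
  refine ⟨U, hU, hzU, fun i hi => ?_⟩
  obtain ⟨n, ⟨e⟩⟩ := hW i hi
  refine ⟨n, ⟨freeOfFactor W.ι hU.fromSpec (hU.isoSpec.inv ≫ Z.homOfLE hUW) ?_ (N i) n e⟩⟩
  rw [Category.assoc, Z.homOfLE_ι]
  rfl

/-- a short complex of finite locally free modules is, near a point, the tilde of a short complex
of finite free modules over an affine open -/
theorem exists_affine_model (S : ShortComplex Z.Modules) (h₁ : FlatMod.IsFinLocFree S.X₁)
    (h₂ : FlatMod.IsFinLocFree S.X₂) (h₃ : FlatMod.IsFinLocFree S.X₃) (z : Z) :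
    ∃ (U : Z.Opens) (hU : IsAffineOpen U), z ∈ U ∧
      ∃ (S' : ShortComplex (ModuleCat.{u} Γ(Z, U))),
        Module.Finite Γ(Z, U) S'.X₂ ∧ Module.Finite Γ(Z, U) S'.X₃ ∧ Module.Free Γ(Z, U) S'.X₃ ∧
        Nonempty (S.map (Scheme.Modules.restrictFunctor hU.fromSpec) ≅
          S'.map (tilde.functor Γ(Z, U))) := by
  let N : Fin 3 → Z.Modules := ![S.X₁, S.X₂, S.X₃]
  have hN : ∀ i, FlatMod.IsFinLocFree (N i) := by
    intro i
    fin_cases i
    · exact h₁
    · exact h₂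
    · exact h₃
  obtain ⟨U, hU, hzU, hfree⟩ := exists_affine_free Finset.univ N hN z
  obtain ⟨n₁, ⟨e₁⟩⟩ := hfree 0 (Finset.mem_univ _)
  obtain ⟨n₂, ⟨e₂⟩⟩ := hfree 1 (Finset.mem_univ _)
  obtain ⟨n₃, ⟨e₃⟩⟩ := hfree 2 (Finset.mem_univ _)
  let R : CommRingCat.{u} := Γ(Z, U)
  let r := Scheme.Modules.restrictFunctor hU.fromSpec
  let F : ℕ → ModuleCat.{u} R := fun n => ModuleCat.of R (ULift.{u} (Fin n) →₀ R)
  let ε₁ : r.obj S.X₁ ≅ (tilde.functor R).obj (F n₁) := e₁ ≪≫ freeTildeIso R n₁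
  let ε₂ : r.obj S.X₂ ≅ (tilde.functor R).obj (F n₂) := e₂ ≪≫ freeTildeIso R n₂
  let ε₃ : r.obj S.X₃ ≅ (tilde.functor R).obj (F n₃) := e₃ ≪≫ freeTildeIso R n₃
  let f' : F n₁ ⟶ F n₂ := (tilde.functor R).preimage (ε₁.inv ≫ r.map S.f ≫ ε₂.hom)
  let g' : F n₂ ⟶ F n₃ := (tilde.functor R).preimage (ε₂.inv ≫ r.map S.g ≫ ε₃.hom)
  have hfg : f' ≫ g' = 0 := by
    apply (tilde.functor R).map_injective
    rw [Functor.map_comp, Functor.map_preimage, Functor.map_preimage, Functor.map_zero]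
    simp only [Category.assoc, Iso.hom_inv_id_assoc]
    rw [← r.map_comp_assoc, S.zero, r.map_zero, Limits.zero_comp, Limits.comp_zero]
  refine ⟨U, hU, hzU, ShortComplex.mk f' g' hfg, ?_, ?_, ?_, ⟨?_⟩⟩
  · exact inferInstanceAs (Module.Finite R (ULift.{u} (Fin n₂) →₀ R))
  · exact inferInstanceAs (Module.Finite R (ULift.{u} (Fin n₃) →₀ R))
  · exact inferInstanceAs (Module.Free R (ULift.{u} (Fin n₃) →₀ R))
  · refine ShortComplex.isoMk ε₁ ε₂ ε₃ ?_ ?_
    · change ε₁.hom ≫ (tilde.functor R).map f' = r.map S.f ≫ ε₂.hom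
      rw [Functor.map_preimage, Iso.hom_inv_id_assoc]
    · change ε₂.hom ≫ (tilde.functor R).map g' = r.map S.g ≫ ε₃.hom
      rw [Functor.map_preimage, Iso.hom_inv_id_assoc]

section Fibre

/-- the middle homology of the fibre of a short complex, in terms of an affine model -/
noncomputable def fibIso (L : CommRingCat.{u}) (hL : IsField L) (S : ShortComplex Z.Modules)
    {R : CommRingCat.{u}} (ι : Spec R ⟶ Z)
    [IsOpenImmersion ι] (S' : ShortComplex (ModuleCat.{u} R))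
    (σ : S.map (Scheme.Modules.restrictFunctor ι) ≅ S'.map (tilde.functor R))
    (ψ : R ⟶ L) (t : Spec L ⟶ Z) (ht : Spec.map ψ ≫ ι = t) :
    (Φ L).obj ((S.map (Scheme.Modules.pullback t)).homology) ≅
      (S'.map (ModuleCat.extendScalars.{u, u, u} ψ.hom)).homology :=
  let S'' := S'.map (ModuleCat.extendScalars.{u, u, u} ψ.hom)
  let e1 : S.map (Scheme.Modules.pullback t) ≅ S''.map (tilde.functor L) :=
    ShortComplex.mapNatIso S (pullbackFactorIso ι t (Spec.map ψ) ht) ≪≫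
      (Scheme.Modules.pullback (Spec.map ψ)).mapShortComplex.mapIso σ ≪≫
      ShortComplex.mapNatIso S' (pullbackTildeIso ψ)
  let e2 : (S.map (Scheme.Modules.pullback t)).homology ≅
      (S''.map (tilde.functor L)).homology := ShortComplex.homologyMapIso e1
  haveI := SpecGamma.preservesFiniteColimits hL
  (Φ L).mapIso e2 ≪≫
    (ShortComplex.mapHomologyIso (S''.map (tilde.functor L)) (Φ L)).symm ≪≫
      ShortComplex.homologyMapIso (ShortComplex.mapNatIso S''
        (tilde.toTildeΓNatIso (R := L)).symm)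

/-- the dimension of the middle homology of the fibre of a short complex along `t : Spec L ⟶ Z` -/
noncomputable def hFib (L : CommRingCat.{u}) (S : ShortComplex Z.Modules) (t : Spec L ⟶ Z) : ℕ :=
  Module.finrank L ((Φ L).obj ((S.map (Scheme.Modules.pullback t)).homology))

theorem exists_factor {U : Z.Opens} (hU : IsAffineOpen U) (L : CommRingCat.{u}) (t : Spec L ⟶ Z)
    (ht : Set.range t.base ⊆ U) : ∃ ψ : Γ(Z, U) ⟶ L, Spec.map ψ ≫ hU.fromSpec = t := by
  have hr : Set.range t.base ⊆ Set.range hU.fromSpec.base := by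
    rw [hU.range_fromSpec]
    exact ht
  refine ⟨Spec.preimage (IsOpenImmersion.lift hU.fromSpec t hr), ?_⟩
  rw [Spec.map_preimage]
  exact IsOpenImmersion.lift_fac _ _ _

theorem asIdeal_map_eq_ker {R L : CommRingCat.{u}} (hL : IsField L) (ψ : R ⟶ L) (p : Spec L) :
    ((Spec.map ψ).base p).asIdeal = RingHom.ker ψ.hom := by
  letI := hL.toField
  have hp : p.asIdeal = ⊥ := Ideal.eq_bot_of_prime p.asIdeal
  change (p.asIdeal).comap ψ.hom = _
  rw [hp]
  rfl

theorem hFib_eq_rH' (L : CommRingCat.{u}) (hL : IsField L) (S : ShortComplex Z.Modules)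
    {R : CommRingCat.{u}} (ι : Spec R ⟶ Z)
    [IsOpenImmersion ι] (S' : ShortComplex (ModuleCat.{u} R))
    (σ : S.map (Scheme.Modules.restrictFunctor ι) ≅ S'.map (tilde.functor R))
    (ψ : R ⟶ L) (t : Spec L ⟶ Z) (ht : Spec.map ψ ≫ ι = t) :
    hFib L S t = @rH' R _ L _ ψ.hom.toAlgebra S' :=
  (fibIso L hL S ι S' σ ψ t ht).toLinearEquiv.finrank_eq

/-- upper semicontinuity of the fibre homology of a short complex of finite locally free modules,
over all field-valued points -/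
theorem exists_nhd_hFib_le (S : ShortComplex Z.Modules) (h₁ : FlatMod.IsFinLocFree S.X₁)
    (h₂ : FlatMod.IsFinLocFree S.X₂) (h₃ : FlatMod.IsFinLocFree S.X₃)
    (L₀ : CommRingCat.{u}) (hL₀ : IsField L₀) (t₀ : Spec L₀ ⟶ Z) :
    ∃ W : Z.Opens, Set.range t₀.base ⊆ W ∧
      ∀ (L : CommRingCat.{u}) (_ : IsField L) (t : Spec L ⟶ Z), Set.range t.base ⊆ W →
        hFib L S t ≤ hFib L₀ S t₀ := by
  obtain ⟨p₀⟩ := nonempty_spec hL₀
  haveI := subsingleton_spec hL₀
  obtain ⟨U, hU, hzU, S', hf₂, hf₃, hfr₃, ⟨σ⟩⟩ := exists_affine_model S h₁ h₂ h₃ (t₀.base p₀)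
  have hr₀ : Set.range t₀.base ⊆ U := by
    rintro _ ⟨p, rfl⟩
    rw [Subsingleton.elim p p₀]
    exact hzU
  obtain ⟨ψ₀, hψ₀⟩ := exists_factor hU L₀ t₀ hr₀
  let x₀ : PrimeSpectrum Γ(Z, U) := (Spec.map ψ₀).base p₀
  obtain ⟨D, hD, hDo, hx₀D⟩ := eventually_nhds_iff.1 (rH'_eventually_le S' x₀)
  refine ⟨hU.fromSpec ''ᵁ ⟨D, hDo⟩, ?_, ?_⟩
  · rintro _ ⟨p, rfl⟩
    rw [Subsingleton.elim p p₀]
    refine ⟨x₀, hx₀D, ?_⟩
    rw [← hψ₀]
    rfl
  · intro L hL t ht
    obtain ⟨p⟩ := nonempty_spec hL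
    haveI := subsingleton_spec hL
    have hr : Set.range t.base ⊆ U := by
      rintro _ ⟨q, rfl⟩
      obtain ⟨y, _, hy⟩ := ht ⟨q, rfl⟩
      rw [← hy]
      have : hU.fromSpec.base y ∈ Set.range hU.fromSpec.base := ⟨y, rfl⟩
      rw [hU.range_fromSpec] at this
      exact this
    obtain ⟨ψ, hψ⟩ := exists_factor hU L t hr
    have hxD : (Spec.map ψ).base p ∈ D := by
      obtain ⟨y, hyD, hy⟩ := ht ⟨p, rfl⟩
      have h2 : hU.fromSpec.base y = hU.fromSpec.base ((Spec.map ψ).base p) := by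
        refine Eq.trans hy ?_
        rw [← hψ]
        rfl
      have hinj : Function.Injective hU.fromSpec.base :=
        (Scheme.Hom.isOpenEmbedding hU.fromSpec).injective
      rw [← hinj h2]
      exact hyD
    rw [hFib_eq_rH' L hL S hU.fromSpec S' σ ψ t hψ,
      hFib_eq_rH' L₀ hL₀ S hU.fromSpec S' σ ψ₀ t₀ hψ₀]
    exact @hD _ hxD L L₀ _ _ hL hL₀ ψ.hom.toAlgebra ψ₀.hom.toAlgebra
      (asIdeal_map_eq_ker hL ψ p).symm (asIdeal_map_eq_ker hL₀ ψ₀ p₀).symm

end Fibre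

end Groth.Agent.Lib.Helper5.AffLocal
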