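import Mathlib
import Groth.Agent.Lib.Helper5.Euler.OnePoint
import Groth.Agent.Lib.Helper5.Perf.Pull

/-!
# Fibre ranks of finite locally free modules (helper5)
-/
set_option autoImplicit false
set_option linter.style.haveILetI false
universe u
open CategoryTheory CategoryTheory.Limits AlgebraicGeometry Opposite TopologicalSpace

namespace Groth.Agent.Lib.Helper5.FibreRank

open Groth.Agent.Lib.Helper5.OnePoint Groth.Agent.Lib.Helper5.PerfPull

variable {Z T : Scheme.{u}} (t : T ⟶ Z) (M : Z.Modules) (V : Z.Opens) (n : ℕ)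

/-- pullback of a module which is free on `V` along a morphism landing in `V` -/
noncomputable def pullbackFreeOfRange (e : M.restrict V.ι ≅ FlatMod.freeMod (↑V) n)
    (ht : Set.range t.base ⊆ V) : (Scheme.Modules.pullback t).obj M ≅ FlatMod.freeMod T n :=
  let t' : T ⟶ V := IsOpenImmersion.lift V.ι t (by simpa using ht)
  have h : t' ≫ V.ι = t := IsOpenImmersion.lift_fac _ _ _
  (Scheme.Modules.pullbackCongr h.symm).app M ≪≫ (Scheme.Modules.pullbackComp t' V.ι).symm.app M ≪≫
    (Scheme.Modules.pullback t').mapIso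
      ((Scheme.Modules.restrictFunctorIsoPullback V.ι).symm.app M ≪≫ e) ≪≫ pullbackFreeIso t' n

/-- sections of a free module on a one-point scheme -/
noncomputable def freeEquiv [Subsingleton T] [Nonempty T] :
    ((ΓT T).obj (FlatMod.freeMod T n)) ≃ₗ[Coh.Γtop T] (Fin n → Coh.Γtop T) :=
  haveI := preservesFiniteColimits T
  ((PreservesCoproduct.iso (ΓT T) (fun _ : Fin n => Coh.structureModule T)) ≪≫
    (biproduct.isoCoproduct _).symm ≪≫
    ModuleCat.biproductIsoPi (fun _ : Fin n => (ΓT T).obj (Coh.structureModule T))).toLinearEquiv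

theorem finrank_free [Subsingleton T] [Nonempty T] (hR : IsField (Coh.Γtop T)) :
    Module.finrank (Coh.Γtop T) ((ΓT T).obj (FlatMod.freeMod T n)) = n := by
  rw [(freeEquiv (T := T) n).finrank_eq]
  letI := hR.toField
  exact Module.finrank_fin_fun (Coh.Γtop T)

theorem finite_free [Subsingleton T] [Nonempty T] :
    Module.Finite (Coh.Γtop T) ((ΓT T).obj (FlatMod.freeMod T n)) :=
  Module.Finite.equiv (freeEquiv (T := T) n).symm

/-- the rank of the fibre of a module free of rank `n` near the image of `t` -/
theorem finrank_pullback [Subsingleton T] [Nonempty T] (hR : IsField (Coh.Γtop T))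
    (e : M.restrict V.ι ≅ FlatMod.freeMod (↑V) n) (ht : Set.range t.base ⊆ V) :
    Module.finrank (Coh.Γtop T) ((ΓT T).obj ((Scheme.Modules.pullback t).obj M)) = n := by
  rw [finrank_eq_of_iso T (pullbackFreeOfRange t M V n e ht)]
  exact finrank_free n hR

theorem finite_pullback [Subsingleton T] [Nonempty T]
    (e : M.restrict V.ι ≅ FlatMod.freeMod (↑V) n) (ht : Set.range t.base ⊆ V) :
    Module.Finite (Coh.Γtop T) ((ΓT T).obj ((Scheme.Modules.pullback t).obj M)) :=
  haveI := finite_free (T := T) n
  Module.Finite.equiv ((ΓT T).mapIso (pullbackFreeOfRange t M V n e ht)).toLinearEquiv.symm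

end Groth.Agent.Lib.Helper5.FibreRank
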