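import Mathlib
import Groth.Prelude.Def_PerfD
import Groth.Agent.Lib.Helper5.Euler.FibreRank
import Groth.Agent.Lib.Helper5.Euler.EulerPoincare
import Groth.Agent.Lib.Helper5.Perf.LpullPerf

/-!
# The Euler characteristic of the fibres of a perfect complex is locally constant (helper5)
-/
set_option autoImplicit false
set_option linter.style.haveILetI false
universe u
open CategoryTheory CategoryTheory.Limits AlgebraicGeometry Opposite TopologicalSpace
attribute [local instance] HasDerivedCategory.standard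

namespace Groth.Agent.Lib.Helper5.EulerPerf

open Groth.Agent.Lib.Helper5.OnePoint Groth.Agent.Lib.Helper5.PerfPull
  Groth.Agent.Lib.Helper5.FibreRank Groth.Agent.Lib.Helper5.LpullLib
  Groth.Agent.Lib.Helper5.KFlatSiteQ

variable {X T : Scheme.{u}}

/-- termwise: `t^* ≅ j^* ∘ (-)|_V` when `t = j ≫ V.ι` -/
noncomputable def pullCxFactorIso (t : T ⟶ X) (V : X.Opens) (j : T ⟶ V) (hj : j ≫ V.ι = t)
    (Pc : CochainComplex X.Modules ℤ) :
    (pullCx t).obj Pc ≅ (pullCx j).obj ((DCoh.restrictCx V).obj Pc) :=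
  (NatIso.mapHomologicalComplex
    (Scheme.Modules.pullbackCongr hj.symm ≪≫ (Scheme.Modules.pullbackComp j V.ι).symm ≪≫
      Functor.isoWhiskerRight (Scheme.Modules.restrictFunctorIsoPullback V.ι).symm
        (Scheme.Modules.pullback j)) (ComplexShape.up ℤ)).app Pc ≪≫
    HomologicalComplex.Hom.isoOfComponents (fun i => Iso.refl _) (by intros; simp; rfl)

/-- the derived fibre of `E` along `t : T ⟶ X` landing in `V`, where `E|_V ≅ P` -/
noncomputable def fibreIso (t : T ⟶ X) [DCoh.HasLpull t] (E : DCoh.D X)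
    (Pc : CochainComplex X.Modules ℤ) (hPc : Cell X.sheaf Pc) (eP : DCoh.toD X Pc ≅ E)
    (V : X.Opens) (P : CochainComplex (V : Scheme.{u}).Modules ℤ) (hP : DCoh.IsStrictlyPerfect P)
    (e₁ : DerivedCategory.Q.obj ((DCoh.restrictCx V).obj Pc) ≅ DerivedCategory.Q.obj P)
    (j : T ⟶ V) (hj : j ≫ V.ι = t) :
    (DCoh.Lpull t).obj E ≅ DCoh.toD T ((pullCx j).obj P) :=
  haveI : DCoh.HasLpull j := hasLpull j
  (DCoh.Lpull t).mapIso eP.symm ≪≫ lpullObjIso t Pc (kft_of_cell hPc) ≪≫
    DerivedCategory.Q.mapIso (pullCxFactorIso t V j hj Pc) ≪≫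
    (lpullObjIso j _ (kft_restrictCx V hPc)).symm ≪≫ (DCoh.Lpull j).mapIso e₁ ≪≫
    lpullObjIso j P (kft_of_isStrictlyPerfect P hP)

/-- sections of the cohomology sheaves of a complex on a one-point scheme -/
theorem finrank_HD_eq [Subsingleton T] [Nonempty T] (K : DCoh.D T)
    (C : CochainComplex T.Modules ℤ) (e : K ≅ DCoh.toD T C) (i : ℤ) :
    Module.finrank (Coh.Γtop T) ((DCoh.HD K i).val.obj (op ⊤)) =
      Module.finrank (Coh.Γtop T)
        ((((ΓT T).mapHomologicalComplex (ComplexShape.up ℤ)).obj C).homology i) := by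
  have e1 : DCoh.HD K i ≅ C.homology i :=
    (DerivedCategory.homologyFunctor T.Modules i).mapIso e ≪≫
      (DerivedCategory.homologyFunctorFactors T.Modules i).app C
  have h1 := finrank_eq_of_iso T e1
  have h2 := ((homologyIso T C i).toLinearEquiv).finrank_eq
  exact h1.trans h2.symm

/-- the Euler characteristic of the fibre of a strictly perfect complex -/
theorem euler_fibre [Subsingleton T] [Nonempty T] (hR : IsField (Coh.Γtop T))
    (K : DCoh.D T) {V : Scheme.{u}} (P : CochainComplex V.Modules ℤ) (j : T ⟶ V)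
    (e : K ≅ DCoh.toD T ((pullCx j).obj P)) (a b : ℤ) (hab : DCoh.VanishesOutside P a b)
    (U : ℤ → V.Opens) (n : ℤ → ℕ)
    (eU : ∀ k, Nonempty ((P.X k).restrict (U k).ι ≅ FlatMod.freeMod (↑(U k)) (n k)))
    (hj : ∀ k ∈ Finset.Icc a b, Set.range j.base ⊆ U k) :
    ∑ᶠ i : ℤ, ((i.negOnePow : ℤˣ) : ℤ) *
        (Module.finrank (Coh.Γtop T) ((DCoh.HD K i).val.obj (op ⊤)) : ℤ) =
      ∑ k ∈ Finset.Icc a b, ((k.negOnePow : ℤˣ) : ℤ) * (n k : ℤ) := by
  let D := ((ΓT T).mapHomologicalComplex (ComplexShape.up ℤ)).obj ((pullCx j).obj P)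
  have hs : ∀ k, k ∉ Finset.Icc a b → IsZero (D.X k) := by
    intro k hk
    have hk' : k < a ∨ b < k := by
      rw [Finset.mem_Icc] at hk
      omega
    exact Functor.map_isZero (ΓT T) (Functor.map_isZero (Scheme.Modules.pullback j) (hab k hk'))
  have hfin : ∀ k, Module.Finite (Coh.Γtop T) (D.X k) := by
    intro k
    by_cases hk : k ∈ Finset.Icc a b
    · obtain ⟨ek⟩ := eU k
      exact finite_pullback j (P.X k) (U k) (n k) ek (hj k hk)
    · haveI : Subsingleton (D.X k) := ModuleCat.subsingleton_of_isZero (hs k hk)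
      exact Module.Finite.of_finite
  have h1 := Groth.Agent.Lib.Helper5.EulerPoincare.euler_poincare' hR D hfin (Finset.Icc a b) hs
  have h2 : ∀ i : ℤ, ((i.negOnePow : ℤˣ) : ℤ) *
        (Module.finrank (Coh.Γtop T) ((DCoh.HD K i).val.obj (op ⊤)) : ℤ) =
      ((i.negOnePow : ℤˣ) : ℤ) * (Module.finrank (Coh.Γtop T) (D.homology i) : ℤ) := by
    intro i
    rw [finrank_HD_eq K _ e i]
  rw [finsum_congr h2, h1]
  refine Finset.sum_congr rfl (fun k hk => ?_)
  obtain ⟨ek⟩ := eU k
  have := finrank_pullback j (P.X k) (U k) (n k) hR ek (hj k hk)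
  change _ * (Module.finrank (Coh.Γtop T)
    ((ΓT T).obj ((Scheme.Modules.pullback j).obj (P.X k))) : ℤ) = _
  rw [this]

theorem isField_Γtop_spec (R : CommRingCat.{u}) (hR : IsField R) :
    IsField (Coh.Γtop (Spec R)) := by
  have e : Γ(Spec R, ⊤) ≃+* R := (Scheme.ΓSpecIso R).commRingCatIsoToRingEquiv
  exact MulEquiv.isField hR e.toMulEquiv

/-- **The Euler characteristic of the fibres of a perfect complex is locally constant.** -/
theorem eulerChar_locallyConstant (X : Scheme.{u})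
    [∀ x : X, DCoh.HasLpull (X.fromSpecResidueField x)]
    (E : DCoh.D X) (hE : DCoh.IsPerfect E) :
    IsLocallyConstant (fun x : X => PerfD.eulerChar E x) := by
  rw [IsLocallyConstant.iff_eventually_eq]
  intro x₀
  obtain ⟨Pc, hPc, ⟨eP⟩⟩ := exists_cell_repr E
  obtain ⟨V, hxV, hV⟩ := hE x₀
  obtain ⟨P, hP, ⟨e₁⟩⟩ := hV Pc ⟨eP⟩
  have hP' := hP
  obtain ⟨⟨a, b, hab⟩, hfl⟩ := hP
  choose U n hxU eU using fun k => hfl k ⟨x₀, hxV⟩
  let W' : (V : Scheme.{u}).Opens := (Finset.Icc a b).inf U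
  have hW'x : (⟨x₀, hxV⟩ : (V : Scheme.{u})) ∈ W' := by
    change (⟨x₀, hxV⟩ : (V : Scheme.{u})) ∈ ((W' : (V : Scheme.{u}).Opens) : Set (V : Scheme.{u}))
    rw [TopologicalSpace.Opens.coe_finset_inf, Finset.inf_set_eq_iInter]
    refine Set.mem_iInter₂.2 (fun k _ => ?_)
    exact hxU k
  let W : X.Opens := V.ι ''ᵁ W'
  have hWx : x₀ ∈ W := ⟨⟨x₀, hxV⟩, hW'x, rfl⟩
  have key : ∀ y ∈ W, PerfD.eulerChar E y =
      ∑ k ∈ Finset.Icc a b, ((k.negOnePow : ℤˣ) : ℤ) * (n k : ℤ) := by
    intro y hy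
    obtain ⟨z, hzW', hzy⟩ := hy
    let t := X.fromSpecResidueField y
    have hyV : y ∈ V := by
      rw [← hzy]
      exact z.2
    have hrange : Set.range t.base ⊆ V := by
      rw [Scheme.range_fromSpecResidueField]
      simpa using hyV
    let j : Spec (X.residueField y) ⟶ V := IsOpenImmersion.lift V.ι t (by simpa using hrange)
    have hj : j ≫ V.ι = t := IsOpenImmersion.lift_fac _ _ _
    have hjU : ∀ k ∈ Finset.Icc a b, Set.range j.base ⊆ U k := by
      intro k hk
      rintro _ ⟨p, rfl⟩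
      have h1 : V.ι.base (j.base p) = y := by
        have h2 : (j ≫ V.ι).base p = t.base p := by rw [hj]
        have h3 : t.base p ∈ Set.range t.base := ⟨p, rfl⟩
        rw [Scheme.range_fromSpecResidueField] at h3
        exact h2.trans h3
      have h4 : j.base p = z := V.ι.isOpenEmbedding.injective (h1.trans hzy.symm)
      rw [h4]
      exact (Finset.inf_le hk : W' ≤ U k) hzW'
    exact euler_fibre (isField_Γtop_spec _ (Field.toIsField _)) _ P j
      (fibreIso t E Pc hPc eP V P hP' e₁ j hj) a b hab U n eU hjU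
  filter_upwards [W.isOpen.mem_nhds hWx] with y hy
  rw [key y hy, key x₀ hWx]

end Groth.Agent.Lib.Helper5.EulerPerf
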