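import Mathlib
import Groth.Agent.Lib.Helper5.Perf.LpullPC

/-!
# Pulling back an approximation by a strictly perfect complex (helper5)
-/
set_option autoImplicit false
set_option linter.unusedSectionVars false
set_option linter.unusedVariables false
set_option linter.style.haveILetI false
universe u
open CategoryTheory CategoryTheory.Limits HomologicalComplex AlgebraicGeometry
attribute [local instance] HasDerivedCategory.standard

namespace Groth.Agent.Lib.Helper5.LpullLib

open Groth.Agent.Lib.Helper5.StalkAdj Groth.Agent.Lib.Helper5.KFlatSiteQ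
  Groth.Agent.Lib.Helper5.PerfPull

/-- a map `E₁ ⟶ G` in the derived category which is an isomorphism on `H^i`, `i > m`, and an
epimorphism on `H^m`, pulls back termwise to such a map (`E₁` strictly perfect, `G` cellular) -/
theorem exists_pull_map {T Z : Scheme.{u}} (q : T ⟶ Z) (E₁ G : CochainComplex Z.Modules ℤ)
    (hE₁ : DCoh.IsStrictlyPerfect E₁) (hG : Cell Z.sheaf G)
    (α : DerivedCategory.Q.obj E₁ ⟶ DerivedCategory.Q.obj G) (m : ℤ)
    (hαiso : ∀ i : ℤ, m < i → IsIso ((DerivedCategory.homologyFunctor _ i).map α))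
    (hαepi : Epi ((DerivedCategory.homologyFunctor _ m).map α)) :
    ∃ β : DerivedCategory.Q.obj ((pullCx q).obj E₁) ⟶ DerivedCategory.Q.obj ((pullCx q).obj G),
      (∀ i : ℤ, m < i → IsIso ((DerivedCategory.homologyFunctor _ i).map β)) ∧
        Epi ((DerivedCategory.homologyFunctor _ m).map β) := by
  obtain ⟨R, s, hs, g, hα⟩ := DerivedCategory.right_fac α
  obtain ⟨R', r, hR', hr⟩ : ∃ (R' : CochainComplex Z.Modules ℤ) (r : R' ⟶ R),
      Cell Z.sheaf R' ∧ QuasiIso r := by
    obtain ⟨R', r, hR', hr⟩ := exists_cell_resolution Z.sheaf R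
    exact ⟨R', r, hR', hr⟩
  have hsq : QuasiIso s := (DerivedCategory.isIso_Q_map_iff_quasiIso _ s).1 hs
  let s' : R' ⟶ E₁ := r ≫ s
  let g' : R' ⟶ G := r ≫ g
  haveI hs' : QuasiIso s' := inferInstance
  haveI : IsIso (DerivedCategory.Q.map s') := (DerivedCategory.isIso_Q_map_iff_quasiIso _ s').2 hs'
  haveI : IsIso (DerivedCategory.Q.map r) := (DerivedCategory.isIso_Q_map_iff_quasiIso _ r).2 hr
  have hg' : DerivedCategory.Q.map g' = DerivedCategory.Q.map s' ≫ α := by
    rw [hα]
    simp only [s', g', Functor.map_comp, Category.assoc, IsIso.hom_inv_id_assoc]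
  have hcone : ∀ i, m ≤ i → (CochainComplex.mappingCone g').ExactAt i := by
    refine (coneExact_iff g' m).2 ⟨fun i hi => ?_, ?_⟩
    · rw [hg', Functor.map_comp]
      haveI := hαiso i hi
      infer_instance
    · rw [hg', Functor.map_comp]
      haveI := hαepi
      infer_instance
  have hcK : KFT (CochainComplex.mappingCone g') := kft_of_cell (Cell.cone g' hR' hG)
  have hcone' : ∀ i, m ≤ i → (CochainComplex.mappingCone ((pullCx q).map g')).ExactAt i :=
    fun i hi => (exactAt_pullCx_above q _ hcK (m - 1) (fun j hj => hcone j (by omega)) i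
      (by omega)).of_iso (CochainComplex.mappingCone.mapHomologicalComplexIso g'
        (Scheme.Modules.pullback q))
  obtain ⟨h1', h2'⟩ := (coneExact_iff ((pullCx q).map g') m).1 hcone'
  have hqs : QuasiIso ((pullCx q).map s') :=
    quasiIso_pullback_map q s' (kft_of_cell hR') (kft_of_isStrictlyPerfect E₁ hE₁) hs'
  haveI : IsIso (DerivedCategory.Q.map ((pullCx q).map s')) :=
    (DerivedCategory.isIso_Q_map_iff_quasiIso _ _).2 hqs
  refine ⟨inv (DerivedCategory.Q.map ((pullCx q).map s')) ≫
    DerivedCategory.Q.map ((pullCx q).map g'), fun i hi => ?_, ?_⟩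
  · haveI := h1' i hi
    rw [Functor.map_comp]
    infer_instance
  · haveI := h2'
    rw [Functor.map_comp]
    infer_instance

end Groth.Agent.Lib.Helper5.LpullLib
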