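import Mathlib
import Groth.Prelude.Def_PerfD
import Groth.Agent.Lib.Helper5.Euler.EulerPerf
import Groth.Agent.Lib.Helper5.Euler.PullMap
import Groth.Agent.Lib.Helper5.Euler.AffLocal

/-!
# Upper semicontinuity of the Betti numbers of a pseudo-coherent complex (helper5)
-/
set_option autoImplicit false
set_option linter.style.haveILetI false
universe u
open CategoryTheory CategoryTheory.Limits AlgebraicGeometry Opposite TopologicalSpace
attribute [local instance] HasDerivedCategory.standard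

namespace Groth.Agent.Lib.Helper5.BettiSemi

open Groth.Agent.Lib.Helper5.OnePoint Groth.Agent.Lib.Helper5.PerfPull
  Groth.Agent.Lib.Helper5.LpullLib Groth.Agent.Lib.Helper5.KFlatSiteQ
  Groth.Agent.Lib.Helper5.EulerPerf Groth.Agent.Lib.Helper5.AffLocal
  Groth.Agent.Lib.Helper5.SpecGamma

/-- homology of a termwise pullback in degree `p` as the homology of the mapped short complex -/
noncomputable def homologyPullIso {T V : Scheme.{u}} (j : T ⟶ V)
    (E₁ : CochainComplex V.Modules ℤ) (p : ℤ) :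
    ((pullCx j).obj E₁).homology p ≅
      ((E₁.sc' (p - 1) p (p + 1)).map (Scheme.Modules.pullback j)).homology :=
  ShortComplex.homologyMapIso
    (((pullCx j).obj E₁).isoSc' (p - 1) p (p + 1) (by simp) (by simp))

variable {X : Scheme.{u}}

theorem betti_eq_hFib [∀ x : X, DCoh.HasLpull (X.fromSpecResidueField x)] (E : DCoh.D X)
    (Pc : CochainComplex X.Modules ℤ) (hPc : Cell X.sheaf Pc) (eP : DCoh.toD X Pc ≅ E)
    (V : X.Opens) (E₁ : CochainComplex (V : Scheme.{u}).Modules ℤ)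
    (hE₁ : DCoh.IsStrictlyPerfect E₁)
    (α : DerivedCategory.Q.obj E₁ ⟶ DerivedCategory.Q.obj ((DCoh.restrictCx V).obj Pc)) (p : ℤ)
    (hαiso : ∀ i : ℤ, p - 1 < i → IsIso ((DerivedCategory.homologyFunctor _ i).map α))
    (hαepi : Epi ((DerivedCategory.homologyFunctor _ (p - 1)).map α))
    (y : X) (j : Spec (X.residueField y) ⟶ V) (hj : j ≫ V.ι = X.fromSpecResidueField y) :
    PerfD.betti E y p = hFib (X.residueField y) (E₁.sc' (p - 1) p (p + 1)) j := by
  obtain ⟨β, hβiso, -⟩ :=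
    exists_pull_map j E₁ _ hE₁ (cell_restrictCx V hPc) α (p - 1) hαiso hαepi
  haveI := hβiso p (by omega)
  let t := X.fromSpecResidueField y
  let e0 : (DCoh.Lpull t).obj E ≅
      DerivedCategory.Q.obj ((pullCx j).obj ((DCoh.restrictCx V).obj Pc)) :=
    (DCoh.Lpull t).mapIso eP.symm ≪≫ lpullObjIso t Pc (kft_of_cell hPc) ≪≫
      DerivedCategory.Q.mapIso (pullCxFactorIso t V j hj Pc)
  let e1 : DCoh.HD ((DCoh.Lpull t).obj E) p ≅
      ((E₁.sc' (p - 1) p (p + 1)).map (Scheme.Modules.pullback j)).homology :=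
    (DerivedCategory.homologyFunctor _ p).mapIso e0 ≪≫
      (asIso ((DerivedCategory.homologyFunctor _ p).map β)).symm ≪≫
      (DerivedCategory.homologyFunctorFactors _ p).app _ ≪≫ homologyPullIso j E₁ p
  unfold PerfD.betti hFib
  rw [← SpecGamma.finrank_eq]
  exact finrank_eq_of_iso _ e1

/-- **Upper semicontinuity of the Betti numbers** of a `(p-1)`-pseudo-coherent object in
degree `p`. -/
theorem isOpen_betti_lt [∀ x : X, DCoh.HasLpull (X.fromSpecResidueField x)] (E : DCoh.D X)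
    (p : ℤ) (hE : DCoh.IsPseudoCoherentD (p - 1) E) (n : ℕ) :
    IsOpen {x : X | PerfD.betti E x p < n} := by
  rw [isOpen_iff_forall_mem_open]
  intro y₀ hy₀
  obtain ⟨Pc, hPc, ⟨eP⟩⟩ := exists_cell_repr E
  obtain ⟨V, hy₀V, hV⟩ := hE y₀
  obtain ⟨E₁, α, hE₁, hαiso, hαepi⟩ := hV Pc ⟨eP⟩
  have hrange : ∀ y : X, y ∈ V →
      Set.range (X.fromSpecResidueField y).base ⊆ Set.range V.ι.base := by
    intro y hy
    rw [Scheme.range_fromSpecResidueField, Scheme.Opens.range_ι]
    exact Set.singleton_subset_iff.2 hy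
  let j : ∀ y : X, y ∈ V → (Spec (X.residueField y) ⟶ V) := fun y hy =>
    IsOpenImmersion.lift V.ι (X.fromSpecResidueField y) (hrange y hy)
  have hj : ∀ (y : X) (hy : y ∈ V), j y hy ≫ V.ι = X.fromSpecResidueField y := fun y hy =>
    IsOpenImmersion.lift_fac _ _ _
  have hjpt : ∀ (y : X) (hy : y ∈ V) (q : Spec (X.residueField y)),
      V.ι.base ((j y hy).base q) = y := by
    intro y hy q
    have h1 : V.ι.base ((j y hy).base q) = (X.fromSpecResidueField y).base q := by
      rw [← hj y hy]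
      rfl
    rw [h1]
    have h2 : (X.fromSpecResidueField y).base q ∈ Set.range (X.fromSpecResidueField y).base :=
      ⟨q, rfl⟩
    rw [Scheme.range_fromSpecResidueField] at h2
    exact h2
  have hinj : Function.Injective V.ι.base := (Scheme.Hom.isOpenEmbedding V.ι).injective
  obtain ⟨W, hW₀, hW⟩ := exists_nhd_hFib_le (E₁.sc' (p - 1) p (p + 1)) (hE₁.2 _) (hE₁.2 _)
    (hE₁.2 _) (X.residueField y₀) (Field.toIsField _) (j y₀ hy₀V)
  have key : ∀ (y : X) (hy : y ∈ V), PerfD.betti E y p =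
      hFib (X.residueField y) (E₁.sc' (p - 1) p (p + 1)) (j y hy) := fun y hy =>
    betti_eq_hFib E Pc hPc eP V E₁ hE₁ α p hαiso hαepi y (j y hy) (hj y hy)
  refine ⟨V.ι ''ᵁ W, ?_, (V.ι ''ᵁ W).isOpen, ?_⟩
  · rintro _ ⟨w, hwW, rfl⟩
    have hyV : V.ι.base w ∈ V := w.2
    change PerfD.betti E (V.ι.base w) p < n
    rw [key _ hyV]
    refine lt_of_le_of_lt (hW _ (Field.toIsField _) (j _ hyV) ?_) ?_
    · rintro _ ⟨q, rfl⟩
      have : (j _ hyV).base q = w := hinj (hjpt _ hyV q)
      rw [this]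
      exact hwW
    · rw [← key y₀ hy₀V]
      exact hy₀
  · obtain ⟨q⟩ : Nonempty (Spec (X.residueField y₀)) :=
      nonempty_spec (K := X.residueField y₀) (Field.toIsField _)
    exact ⟨(j y₀ hy₀V).base q, hW₀ ⟨q, rfl⟩, hjpt y₀ hy₀V q⟩

end Groth.Agent.Lib.Helper5.BettiSemi
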